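import Groth.Agent.H9GalCoh.Complement.Wild

/-!
# Inertia has a closed complement in the decomposition group

For an arbitrary valuation subring of a separably closed Galois extension.
-/

set_option autoImplicit false
set_option linter.style.haveILetI false

universe u

open IsLocalRing
open scoped Pointwise

namespace Groth.Agent.H9GalCoh.Complement

variable {K L : Type u} [Field K] [Field L] [Algebra K L] {B : ValuationSubring L}

local notation "D" => B.decompositionSubgroup K
local notation "k" => IsLocalRing.ResidueField B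

theorem exists_hom_ne_zero_aux {M : Type u} [AddCommGroup M] {l : ℕ} [Fact l.Prime] [Module (ZMod l) M]
    {x : M} (hx : x ≠ 0) : ∃ φ : M →+ ZMod l, φ x ≠ 0 := by
  by_contra hc
  push Not at hc
  exact hx ((Module.forall_dual_apply_eq_zero_iff (ZMod l) x).1 fun φ => hc φ.toAddMonoidHom)

/-- A nonzero element of a group of prime exponent is detected by a homomorphism to `ZMod l`. -/
theorem exists_hom_ne_zero {M : Type u} [AddCommGroup M] {l : ℕ} [Fact l.Prime] (h : ∀ x : M, l • x = 0)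
    {x : M} (hx : x ≠ 0) : ∃ φ : M →+ ZMod l, φ x ≠ 0 :=
  @exists_hom_ne_zero_aux M _ l _ (AddCommGroup.zmodModule h) x hx

variable [IsGalois K L]

theorem isClosed_inertia : IsClosed (B.inertiaSubgroup K : Set D) := by
  have : (B.inertiaSubgroup K : Set D) = ⋂ z : k, {d : D | d • z = z} := by
    ext d
    simp only [SetLike.mem_coe, mem_inertia, Set.mem_iInter, Set.mem_setOf_eq]
  rw [this]
  exact isClosed_iInter fun z => ((isLocallyConstant_residue z).isClopen_fiber z).1

/-- Minimal supplements of inertia exist. -/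
theorem exists_minimalSupplement : ∃ H : Subgroup D, IsMinimalSupplement H ∧
    ∀ d : D, ∃ h ∈ H, h⁻¹ * d ∈ B.inertiaSubgroup K := by
  classical
  let S : Set (Subgroup D) :=
    {H | IsClosed (H : Set D) ∧ ∀ d : D, ∃ h ∈ H, h⁻¹ * d ∈ B.inertiaSubgroup K}
  obtain ⟨H, hmin⟩ : ∃ H, Minimal (fun H => H ∈ S) H := by
    have htop : (⊤ : Subgroup D) ∈ S :=
      ⟨by rw [Subgroup.coe_top]; exact isClosed_univ, fun d => ⟨d, trivial, by rw [inv_mul_cancel]; exact one_mem _⟩⟩
    obtain ⟨H, -, hH⟩ := zorn_le_nonempty₀ (α := (Subgroup D)ᵒᵈ) (OrderDual.ofDual ⁻¹' S)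
      (fun c hcS hc y hy => by
        haveI : Nonempty c := ⟨⟨y, hy⟩⟩
        let F : c → Subgroup D := fun H => OrderDual.ofDual H.1
        refine ⟨OrderDual.toDual (⨅ H : c, F H), ⟨?_, fun d => ?_⟩, fun z hz => iInf_le F ⟨z, hz⟩⟩
        · show IsClosed ((⨅ H : c, F H : Subgroup D) : Set D)
          rw [Subgroup.coe_iInf]
          exact isClosed_iInter fun H => (hcS H.2).1
        · let T : c → Set D := fun H => (F H : Set D) ∩ (fun h => h⁻¹ * d) ⁻¹' (B.inertiaSubgroup K : Set D)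
          have hTc : ∀ H, IsClosed (T H) := fun H =>
            (hcS H.2).1.inter (isClosed_inertia.preimage (continuous_inv.mul continuous_const))
          have hdir : Directed (· ⊇ ·) T := by
            intro a b
            rcases hc.total a.2 b.2 with h | h
            · exact ⟨b, fun x hx => ⟨h hx.1, hx.2⟩, subset_rfl⟩
            · exact ⟨a, subset_rfl, fun x hx => ⟨h hx.1, hx.2⟩⟩
          obtain ⟨h, hh⟩ := IsCompact.nonempty_iInter_of_directed_nonempty_isCompact_isClosed T hdir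
            (fun H => by
              obtain ⟨h, hh1, hh2⟩ := (hcS H.2).2 d
              exact ⟨h, hh1, hh2⟩)
            (fun H => (hTc H).isCompact) hTc
          rw [Set.mem_iInter] at hh
          exact ⟨h, Subgroup.mem_iInf.2 fun H => (hh H).1, (hh ⟨y, hy⟩).2⟩)
      (OrderDual.toDual ⊤) htop
    exact ⟨OrderDual.ofDual H, hH.1, fun H' hH' hle => hH.2 (y := OrderDual.toDual H') hH' hle⟩
  refine ⟨H, ⟨hmin.prop.1, fun H₁ h1 hle hsup => le_antisymm hle (hmin.2 ⟨h1, fun d => ?_⟩ hle)⟩, hmin.prop.2⟩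
  obtain ⟨h, hh, hd⟩ := hmin.prop.2 d
  obtain ⟨n, ⟨-, hn⟩, hhn⟩ := hsup h hh
  exact ⟨h * n, hhn, by rw [mul_inv_rev, mul_assoc]; exact mul_mem (inv_mem hn) hd⟩

/-- The inertia part of a minimal supplement is trivial. -/
theorem IsMinimalSupplement.inf_inertia [IsSepClosed L] {H : Subgroup D} (hH : IsMinimalSupplement H) :
    H ⊓ B.inertiaSubgroup K = ⊥ := by
  classical
  rw [Subgroup.eq_bot_iff_forall]
  intro n₀ hn₀
  by_contra hne
  obtain ⟨x, hx⟩ : ∃ x : L, n₀ • x ≠ x := by
    by_contra hc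
    push Not at hc
    exact hne (Subtype.ext (AlgEquiv.ext hc))
  let F := IntermediateField.normalClosure K (IntermediateField.adjoin K {x}) L
  haveI : FiniteDimensional K (IntermediateField.adjoin K {x}) :=
    IntermediateField.adjoin.finiteDimensional (Algebra.IsIntegral.isIntegral x)
  let U : Subgroup D := (IntermediateField.fixingSubgroup F).subgroupOf D
  haveI : (IntermediateField.fixingSubgroup F).Normal := by
    haveI : IsGalois K F := ⟨⟩
    exact IsGalois.fixingSubgroup_normal_of_isGalois F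
  haveI hUn : U.Normal := inferInstance
  have hUo : IsOpen (U : Set D) := F.fixingSubgroup_isOpen.preimage continuous_subtype_val
  have hnU : n₀ ∉ U := fun h => hx ((IntermediateField.mem_fixingSubgroup_iff _ _).1 h x
    (IntermediateField.le_normalClosure _ (IntermediateField.mem_adjoin_simple_self K x)))
  haveI : Finite (D ⧸ U) := Subgroup.quotient_finite_of_isOpen U hUo
  -- the image and a chief factor
  let q : H →* D ⧸ U := (QuotientGroup.mk' U).comp H.subtype
  let NH : Subgroup H := (B.inertiaSubgroup K).subgroupOf H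
  haveI hNHn : NH.Normal :=
    haveI : (B.inertiaSubgroup K).Normal := MonoidHom.normal_ker _
    inferInstance
  let Ib : Subgroup q.range := NH.map q.rangeRestrict
  haveI hIbn : Ib.Normal := hNHn.map _ q.rangeRestrict_surjective
  have hIb : Ib ≠ ⊥ := fun h => hnU (by
    have : q.rangeRestrict ⟨n₀, hn₀.1⟩ ∈ Ib := ⟨⟨n₀, hn₀.1⟩, hn₀.2, rfl⟩
    rw [h, Subgroup.mem_bot] at this
    exact (QuotientGroup.eq_one_iff n₀).1 (congrArg Subtype.val this))
  obtain ⟨N', hN'⟩ : ∃ N', Maximal (fun M : Subgroup q.range => M.Normal ∧ M < Ib) N' := by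
    obtain ⟨N', -, hN'⟩ := Finite.exists_le_maximal (p := fun M : Subgroup q.range => M.Normal ∧ M < Ib)
      (a := ⊥) ⟨inferInstance, bot_lt_iff_ne_bot.2 hIb⟩
    exact ⟨N', hN'⟩
  haveI : N'.Normal := hN'.prop.1
  let E := q.range ⧸ N'
  let mkN : q.range →* E := QuotientGroup.mk' N'
  let ψ : H →* E := mkN.comp q.rangeRestrict
  have hψs : Function.Surjective ψ :=
    (QuotientGroup.mk'_surjective N').comp q.rangeRestrict_surjective
  let V : Subgroup E := Ib.map mkN
  haveI hVn : V.Normal := hIbn.map _ (QuotientGroup.mk'_surjective N')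
  have hVne : V ≠ ⊥ := fun h => not_le_of_gt hN'.prop.2 (fun g hg => by
    have : mkN g ∈ V := ⟨g, hg, rfl⟩
    rw [h, Subgroup.mem_bot] at this
    exact (QuotientGroup.eq_one_iff g).1 this)
  have hVmin : ∀ M : Subgroup E, M.Normal → M ≤ V → M ≠ ⊥ → M = V := fun M hMn hMV hMne => by
    refine le_antisymm hMV ?_
    have h1 : M.comap mkN ≤ Ib := fun g hg => by
      obtain ⟨g', hg', he⟩ := hMV hg
      have : g'⁻¹ * g ∈ N' := QuotientGroup.eq.1 he
      simpa using mul_mem hg' (hN'.prop.2.le this)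
    have h2 : N' ≤ M.comap mkN := fun g hg => by
      show mkN g ∈ M
      rw [show mkN g = 1 from (QuotientGroup.eq_one_iff g).2 hg]
      exact one_mem M
    have h3 : M.comap mkN = Ib := by
      rcases h1.eq_or_lt with h | h
      · exact h
      · refine absurd ?_ hMne
        have h4 := hN'.eq_of_le ⟨hMn.comap _, h⟩ h2
        rw [Subgroup.eq_bot_iff_forall]
        intro m hm
        obtain ⟨g, rfl⟩ := QuotientGroup.mk'_surjective N' m
        exact (QuotientGroup.eq_one_iff g).2 (h4.symm ▸ hm : g ∈ N')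
    show Ib.map mkN ≤ M
    rw [← h3]
    exact Subgroup.map_comap_le _ _
  have himg : ∀ v ∈ V, ∃ n : H, (n : D) ∈ B.inertiaSubgroup K ∧ ψ n = v := by
    rintro _ ⟨g, ⟨n, hn, rfl⟩, rfl⟩
    exact ⟨n, hn, rfl⟩
  have hNV : ∀ n : H, (n : D) ∈ B.inertiaSubgroup K → ψ n ∈ V := fun n hn => ⟨_, ⟨n, hn, rfl⟩, rfl⟩
  have hker : ∀ h : H, (h : D) ∈ U → ψ h = 1 := fun h hh => by
    have : q.rangeRestrict h = 1 := Subtype.ext ((QuotientGroup.eq_one_iff (h : D)).2 hh)
    show mkN _ = 1
    rw [this, map_one]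
  -- no proper supplement of `V`
  have hsupp : ∀ S : Subgroup E, S ⊔ V = ⊤ → S = ⊤ := fun S hS => by
    let H₁ : Subgroup D := (S.comap ψ).map H.subtype
    have h1 : H₁ = H := hH.minimal H₁ (isClosed_subgroup hH.closed hUo (by rintro _ ⟨y, -, rfl⟩; exact y.2)
      fun d hd => ⟨⟨d, hd.1⟩, by show ψ _ ∈ S; rw [hker ⟨d, hd.1⟩ hd.2]; exact one_mem S, rfl⟩)
      (by rintro _ ⟨y, -, rfl⟩; exact y.2) fun h hh => by
        have h2 : ψ ⟨h, hh⟩ ∈ S ⊔ V := hS ▸ Subgroup.mem_top _
        rw [← SetLike.mem_coe, Subgroup.mul_normal S V] at h2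
        obtain ⟨s, hs, v, hv, hsv⟩ := Set.mem_mul.1 h2
        obtain ⟨n, hn, hψn⟩ := himg v⁻¹ (inv_mem hv)
        refine ⟨n, ⟨n.2, hn⟩, ⟨⟨h, hh⟩ * n, ?_, rfl⟩⟩
        show ψ (_ * n) ∈ S
        rw [map_mul, hψn, ← hsv, mul_inv_cancel_right]
        exact hs
    refine eq_top_iff.2 fun g _ => ?_
    obtain ⟨h, rfl⟩ := hψs g
    obtain ⟨y, hy, hye⟩ := h1.ge h.2
    exact (Subtype.ext hye : y = h) ▸ hy
  -- the chief factor is elementary abelian
  haveI : Nontrivial V := (Subgroup.nontrivial_iff_ne_bot V).2 hVne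
  obtain ⟨l, hl, hlV⟩ : ∃ l, l.Prime ∧ l ∣ Nat.card V :=
    Nat.exists_prime_and_dvd (Finite.one_lt_card).ne'
  haveI := Fact.mk hl
  obtain ⟨P⟩ : Nonempty (Sylow l V) := inferInstance
  have hPn : (Subgroup.map V.subtype (P : Subgroup V)).Normal :=
    Subgroup.normalizer_eq_top_iff.1 (hsupp _ (Sylow.normalizer_sup_eq_top P))
  have hPV : Subgroup.map V.subtype (P : Subgroup V) = V := by
    refine hVmin _ hPn (Subgroup.map_subtype_le _) fun h => ?_
    rw [Subgroup.map_eq_bot_iff_of_injective _ Subtype.val_injective] at h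
    exact (P.ne_bot_of_dvd_card hlV) h
  have hPtop : (P : Subgroup V) = ⊤ := by
    refine eq_top_iff.2 fun v _ => ?_
    obtain ⟨w, hw, hwe⟩ := hPV.ge v.2
    exact (Subtype.ext hwe : w = v) ▸ hw
  have hVl : IsPGroup l V :=
    (hPtop ▸ P.isPGroup').of_equiv Subgroup.topEquiv
  have hcomm : ∀ a ∈ V, ∀ b ∈ V, a * b = b * a := by
    haveI := hVl.center_nontrivial
    let Z : Subgroup E := (Subgroup.center V).map V.subtype
    have hZ : Z = V := hVmin Z inferInstance (Subgroup.map_subtype_le _) fun h => by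
      rw [Subgroup.map_eq_bot_iff_of_injective _ Subtype.val_injective] at h
      exact (Subgroup.nontrivial_iff_ne_bot _).1 this h
    intro a ha b hb
    obtain ⟨a', ha', rfl⟩ := hZ.ge ha
    exact (congrArg Subtype.val ((Subgroup.mem_center_iff.1 ha') ⟨b, hb⟩)).symm
  have hexp : ∀ a ∈ V, a ^ l = 1 := by
    let T : Subgroup E :=
      { carrier := {a | a ∈ V ∧ a ^ l = 1}
        one_mem' := ⟨one_mem V, one_pow _⟩
        mul_mem' := fun {a b} ha hb => ⟨mul_mem ha.1 hb.1, by
          rw [Commute.mul_pow (hcomm a ha.1 b hb.1), ha.2, hb.2, one_mul]⟩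
        inv_mem' := fun {a} ha => ⟨inv_mem ha.1, by rw [inv_pow, ha.2, inv_one]⟩ }
    have hTn : T.Normal := ⟨fun a ha g => ⟨hVn.conj_mem a ha.1 g, by
      rw [conj_pow, ha.2, mul_one, mul_inv_cancel]⟩⟩
    have hT : T = V := hVmin T hTn (fun a ha => ha.1) fun h => by
      obtain ⟨v, hv⟩ := exists_prime_orderOf_dvd_card' l hlV
      have h1 : (v : E) ∈ T := ⟨v.2, by rw [← SubmonoidClass.coe_pow, ← hv, pow_orderOf_eq_one]; rfl⟩
      rw [h, Subgroup.mem_bot] at h1
      rw [show v = 1 from Subtype.ext h1, orderOf_one] at hv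
      exact hl.ne_one hv.symm
    exact fun a ha => (hT.ge ha).2
  obtain ⟨v₀, hv₀, hv₀1⟩ : ∃ v ∈ V, v ≠ 1 := by
    by_contra hc
    push Not at hc
    exact hVne ((Subgroup.eq_bot_iff_forall V).2 hc)
  by_cases hlk : (l : k) = 0
  · haveI : CharP k l := by
      obtain ⟨c, hc⟩ := CharP.exists k
      have hdvd := (CharP.cast_eq_zero_iff k c l).1 hlk
      rcases hl.eq_one_or_self_of_dvd c hdvd with h | h
      · exact absurd h (CharP.char_ne_one k c)
      · exact h ▸ hc
    exact hv₀1 (hH.eq_one_of_wild l ψ V hcomm hexp U hUo hker himg hNV hv₀)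
  · -- a nonzero functional
    letI : CommGroup V := { (inferInstance : Group V) with mul_comm := fun a b => Subtype.ext (hcomm a a.2 b b.2) }
    obtain ⟨φ, hφ⟩ := exists_hom_ne_zero (l := l) (M := Additive V) (fun x =>
      Additive.toMul.injective (Subtype.ext (by
        show (((Additive.toMul x : V) ^ l : V) : E) = 1
        rw [SubmonoidClass.coe_pow]
        exact hexp _ (Additive.toMul x).2)))
      (show (Additive.ofMul (⟨v₀, hv₀⟩ : V)) ≠ 0 from fun h =>
        hv₀1 (congrArg (fun x : Additive V => ((Additive.toMul x : V) : E)) h))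
    let f : D → ZMod l := fun d =>
      if h : d ∈ H ∧ d ∈ B.inertiaSubgroup K then φ (Additive.ofMul ⟨ψ ⟨d, h.1⟩, hNV ⟨d, h.1⟩ h.2⟩) else 0
    obtain ⟨n, hn, hψn⟩ := himg v₀ hv₀
    have hfd : ∀ (d : D) (hd : d ∈ H) (hd' : d ∈ B.inertiaSubgroup K),
        f d = φ (Additive.ofMul ⟨ψ ⟨d, hd⟩, hNV ⟨d, hd⟩ hd'⟩) := fun d hd hd' =>
      dif_pos (show d ∈ H ∧ d ∈ B.inertiaSubgroup K from ⟨hd, hd'⟩)
    have := hH.hom_eq_zero hl hlk f (fun a ha b hb => by
      rw [hfd a ha.1 ha.2, hfd b hb.1 hb.2, hfd (a * b) (mul_mem ha.1 hb.1) (mul_mem ha.2 hb.2), ← map_add,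
        ← ofMul_mul]
      refine congrArg φ (congrArg Additive.ofMul (Subtype.ext ?_))
      exact map_mul ψ ⟨a, ha.1⟩ ⟨b, hb.1⟩)
      U hUo (fun a ha haU => by
        rw [hfd a ha.1 ha.2, show (⟨ψ ⟨a, ha.1⟩, hNV ⟨a, ha.1⟩ ha.2⟩ : V) = 1 from
          Subtype.ext (hker ⟨a, ha.1⟩ haU), ofMul_one, map_zero]) isClosed_inertia (σ := (n : D)) ⟨n.2, hn⟩
    refine hφ ?_
    rw [← this, hfd (n : D) n.2 hn]
    exact congrArg φ (congrArg Additive.ofMul (Subtype.ext hψn.symm))

/-- The inertia subgroup has a closed complement in the decomposition subgroup. -/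
theorem exists_closed_complement [IsSepClosed L] :
    ∃ H : Subgroup D,
      IsClosed ((H.map (B.decompositionSubgroup K).subtype : Subgroup (L ≃ₐ[K] L)) : Set (L ≃ₐ[K] L)) ∧
      H ⊓ B.inertiaSubgroup K = ⊥ ∧ H ⊔ B.inertiaSubgroup K = ⊤ := by
  obtain ⟨H, hH, hsup⟩ := exists_minimalSupplement (K := K) (B := B)
  have hDc : IsClosed (D : Set (L ≃ₐ[K] L)) :=
    (isCompact_iff_compactSpace.2 (inferInstanceAs (CompactSpace D))).isClosed
  refine ⟨H, ?_, hH.inf_inertia, ?_⟩
  · show IsClosed (Subtype.val '' (H : Set D))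
    exact hDc.isClosedEmbedding_subtypeVal.isClosedMap _ hH.closed
  · refine eq_top_iff.2 fun d _ => ?_
    obtain ⟨h, hh, hd⟩ := hsup d
    rw [show d = h * (h⁻¹ * d) by group]
    exact Subgroup.mul_mem_sup hh hd

end Groth.Agent.H9GalCoh.Complement
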