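import Mathlib.RingTheory.Valuation.RamificationGroup
import Mathlib.FieldTheory.Galois.Profinite
import Mathlib.FieldTheory.Galois.Infinite
import Mathlib.FieldTheory.IsSepClosed
import Mathlib.Topology.LocallyConstant.Basic
import Mathlib

/-!
# The decomposition group acting on the residue field: separating cosets and independence

Used for complements of the inertia subgroup inside the decomposition subgroup.
-/

set_option autoImplicit false
set_option linter.style.haveILetI false

universe u

open Polynomial IsLocalRing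
open scoped Pointwise

namespace Groth.Agent.H9GalCoh.Complement

variable {K L : Type u} [Field K] [Field L] [Algebra K L] {B : ValuationSubring L}

local notation "D" => B.decompositionSubgroup K
local notation "k" => IsLocalRing.ResidueField B

theorem smul_coe (d : D) (x : B) : ((d • x : B) : L) = d • (x : L) := rfl

theorem smul_mem (d : D) {x : L} (hx : x ∈ B) : d • x ∈ B := (d • (⟨x, hx⟩ : B)).2

theorem mem_inertia {d : D} : d ∈ B.inertiaSubgroup K ↔ ∀ z : k, d • z = z := by
  constructor
  · intro h z
    exact RingEquiv.congr_fun (MonoidHom.mem_ker.1 h) z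
  · exact fun h => MonoidHom.mem_ker.2 (RingEquiv.ext h)

/-- The point stabilizer of a field element is open. -/
theorem isOpen_stabilizer [IsGalois K L] (x : L) :
    IsOpen (MulAction.stabilizer D x : Set D) := by
  haveI : FiniteDimensional K (IntermediateField.adjoin K {x}) :=
    IntermediateField.adjoin.finiteDimensional (Algebra.IsIntegral.isIntegral x)
  have hopen := (IntermediateField.adjoin K {x}).fixingSubgroup_isOpen
  refine Subgroup.isOpen_mono (H₁ := ((IntermediateField.adjoin K {x}).fixingSubgroup).subgroupOf D) ?_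
    (hopen.preimage continuous_subtype_val)
  intro d hd
  exact (IntermediateField.mem_fixingSubgroup_iff _ _).1 hd x (IntermediateField.mem_adjoin_simple_self K x)

theorem isLocallyConstant_smul [IsGalois K L] (x : L) : IsLocallyConstant fun d : D => d • x := by
  rw [IsLocallyConstant.iff_exists_open]
  intro d
  refine ⟨(fun e => d⁻¹ * e) ⁻¹' (MulAction.stabilizer D x : Set D), (isOpen_stabilizer x).preimage
    (continuous_const.mul continuous_id), by simp, fun e he => ?_⟩
  have h : (d⁻¹ * e) • x = x := he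
  rw [mul_smul, inv_smul_eq_iff] at h
  exact h

theorem isLocallyConstant_residue [IsGalois K L] (z : k) : IsLocallyConstant fun d : D => d • z := by
  obtain ⟨x, rfl⟩ := IsLocalRing.residue_surjective z
  have h1 : IsLocallyConstant fun d : D => d • x := by
    refine IsLocallyConstant.iff_exists_open _ |>.2 fun d => ?_
    obtain ⟨U, hU, hdU, he⟩ := (isLocallyConstant_smul (x : L)).exists_open d
    exact ⟨U, hU, hdU, fun e hee => Subtype.ext (he e hee)⟩
  simp_rw [← IsLocalRing.ResidueField.residue_smul]
  exact h1.comp _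

instance compactSpace_decomposition [IsGalois K L] : CompactSpace D := by
  refine isCompact_iff_compactSpace.1 (IsClosed.isCompact ?_)
  have : (D : Set (L ≃ₐ[K] L)) =
      ⋂ x : B, {g : L ≃ₐ[K] L | g (x : L) ∈ B} ∩ {g : L ≃ₐ[K] L | g.symm (x : L) ∈ B} := by
    ext g
    simp only [SetLike.mem_coe, MulAction.mem_stabilizer_iff, Set.mem_iInter, Set.mem_inter_iff, Set.mem_setOf_eq]
    refine ⟨fun h x => ⟨?_, ?_⟩, fun h => ?_⟩
    · have := ValuationSubring.smul_mem_pointwise_smul g (x : L) B x.2
      rwa [h] at this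
    · have h' : g⁻¹ • B = B := by rw [inv_smul_eq_iff, h]
      have := ValuationSubring.smul_mem_pointwise_smul g⁻¹ (x : L) B x.2
      rw [h'] at this
      exact this
    · refine SetLike.ext fun y => ?_
      rw [ValuationSubring.mem_pointwise_smul_iff_inv_smul_mem]
      refine ⟨fun hy => ?_, fun hy => (h ⟨y, hy⟩).2⟩
      have := (h ⟨g⁻¹ • y, hy⟩).1
      change g (g.symm y) ∈ B at this
      rwa [AlgEquiv.apply_symm_apply] at this
  rw [this]
  have key : ∀ (x : L) (S : Set L), IsClosed {g : L ≃ₐ[K] L | g x ∈ S} := fun x S => by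
    haveI : FiniteDimensional K (IntermediateField.adjoin K {x}) :=
      IntermediateField.adjoin.finiteDimensional (Algebra.IsIntegral.isIntegral x)
    have hlc : IsLocallyConstant fun g : L ≃ₐ[K] L => g x := by
      rw [IsLocallyConstant.iff_exists_open]
      intro g
      refine ⟨(fun e => g⁻¹ * e) ⁻¹' ((IntermediateField.adjoin K {x}).fixingSubgroup : Set (L ≃ₐ[K] L)),
        (IntermediateField.fixingSubgroup_isOpen _).preimage (continuous_const.mul continuous_id),
        by simp, fun e he => ?_⟩
      have h : g.symm (e x) = x :=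
        (IntermediateField.mem_fixingSubgroup_iff _ _).1 he x (IntermediateField.mem_adjoin_simple_self K x)
      exact (g.symm_apply_eq).1 h
    exact ⟨hlc Sᶜ⟩
  refine isClosed_iInter fun x => IsClosed.inter (key _ _) ?_
  have : {g : L ≃ₐ[K] L | g.symm (x : L) ∈ B} = Inv.inv ⁻¹' {g : L ≃ₐ[K] L | g (x : L) ∈ B} := rfl
  rw [this]
  exact (key _ _).preimage continuous_inv

/-- A subgroup containing the trace of an open subgroup on a closed one is closed. -/
theorem isClosed_subgroup {H H₁ U : Subgroup D} (hH : IsClosed (H : Set D)) (hU : IsOpen (U : Set D))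
    (hle : H₁ ≤ H) (hUH : H ⊓ U ≤ H₁) : IsClosed (H₁ : Set D) := by
  refine isClosed_of_closure_subset fun x hx => ?_
  have hxH : x ∈ H := (hH.closure_subset_iff.2 hle) hx
  obtain ⟨y, hyU, hy⟩ := mem_closure_iff.1 hx ((fun e => x⁻¹ * e) ⁻¹' (U : Set D))
    (hU.preimage (continuous_const.mul continuous_id)) (by simp)
  have h1 : x⁻¹ * y ∈ H₁ := hUH ⟨H.mul_mem (H.inv_mem hxH) (hle hy), hyU⟩
  have := mul_mem hy (inv_mem h1)
  simpa using this

variable [IsGalois K L]

/-- An element acting like a subgroup on the residues of its invariants fixes the residual invariants. -/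
theorem smul_eq_of_residue (S : Subgroup D) (τ : D)
    (hfix : ∀ x : B, (∀ s ∈ S, s • x = x) → τ • residue B x = residue B x)
    (z : k) (hz : ∀ s ∈ S, s • z = z) : τ • z = z := by
  classical
  obtain ⟨x, rfl⟩ := IsLocalRing.residue_surjective z
  let O : Set B := (fun d : D => d • x) '' (S : Set D)
  have hfin : O.Finite := by
    have h1 : IsLocallyConstant fun d : D => d • x := by
      refine IsLocallyConstant.iff_exists_open _ |>.2 fun d => ?_
      obtain ⟨U, hU, hdU, he⟩ := (isLocallyConstant_smul (x : L)).exists_open d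
      exact ⟨U, hU, hdU, fun e hee => Subtype.ext (he e hee)⟩
    exact h1.range_finite.subset (Set.image_subset_range _ _)
  let P : B[X] := ∏ w ∈ hfin.toFinset, (X - C w)
  have hP : ∀ s ∈ S, P.map (MulSemiringAction.toRingHom D B s) = P := fun s hs => by
    rw [Polynomial.map_prod]
    refine Finset.prod_bij (fun w _ => s • w) (fun w hw => ?_) (fun w _ w' _ h => MulAction.injective s h)
      (fun w hw => ?_) (fun w _ => by simp)
    · obtain ⟨t, ht, rfl⟩ := hfin.mem_toFinset.1 hw
      exact hfin.mem_toFinset.2 ⟨s * t, mul_mem hs ht, mul_smul s t x⟩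
    · obtain ⟨t, ht, rfl⟩ := hfin.mem_toFinset.1 hw
      exact ⟨(s⁻¹ * t) • x, hfin.mem_toFinset.2 ⟨_, mul_mem (inv_mem hs) ht, rfl⟩, by
        rw [mul_smul, smul_inv_smul]⟩
  have hPres : P.map (residue B) = (X - C (residue B x)) ^ hfin.toFinset.card := by
    rw [Polynomial.map_prod, ← Finset.prod_const]
    refine Finset.prod_congr rfl fun w hw => ?_
    obtain ⟨t, ht, rfl⟩ := hfin.mem_toFinset.1 hw
    rw [Polynomial.map_sub, map_X, map_C, IsLocalRing.ResidueField.residue_smul, hz t ht]
  have hτ : (P.map (residue B)).map (MulSemiringAction.toRingHom D k τ) = P.map (residue B) := by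
    ext n
    rw [coeff_map, coeff_map]
    refine hfix _ fun s hs => ?_
    conv_rhs => rw [← hP s hs, coeff_map]
    rfl
  rw [hPres, Polynomial.map_pow, Polynomial.map_sub, map_X, map_C] at hτ
  have := congrArg (eval (τ • residue B x)) hτ
  rw [eval_pow, eval_pow, eval_sub, eval_sub, eval_X, eval_C, eval_C] at this
  have hne : hfin.toFinset.card ≠ 0 :=
    Finset.card_ne_zero.2 ⟨x, hfin.mem_toFinset.2 ⟨1, one_mem S, one_smul _ _⟩⟩
  rw [show (MulSemiringAction.toRingHom D k τ) (residue B x) = τ • residue B x from rfl, sub_self,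
    zero_pow hne] at this
  exact sub_eq_zero.1 (pow_eq_zero_iff hne |>.1 this.symm)

/-- Invariants of a closed subgroup containing the inertia part separate its cosets. -/
theorem mem_of_fixes_invariants (H S : Subgroup D) (hS : IsClosed (S : Set D)) (hSH : S ≤ H)
    (hIS : H ⊓ B.inertiaSubgroup K ≤ S) (τ : D) (hτ : τ ∈ H)
    (hfix : ∀ z : k, (∀ s ∈ S, s • z = z) → τ • z = z) : τ ∈ S := by
  classical
  by_contra hτS
  have hmove : ∀ d ∈ S, ∃ z : k, d • z ≠ τ • z := fun d hd => by
    by_contra hc
    push Not at hc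
    refine hτS ?_
    have hI : τ⁻¹ * d ∈ S := hIS ⟨H.mul_mem (H.inv_mem hτ) (hSH hd), mem_inertia.2 fun z => by
      rw [mul_smul, inv_smul_eq_iff, hc]⟩
    simpa using mul_mem hd (inv_mem hI)
  obtain ⟨t, ht⟩ := (IsClosed.isCompact hS).elim_finite_subcover (fun z : k => {d : D | d • z ≠ τ • z})
    (fun z => (isLocallyConstant_residue z) {w | w ≠ τ • z})
    fun d hd => Set.mem_iUnion.2 (hmove d hd)
  let e := t.equivFin
  let a : k[X] := ∑ i : Fin t.card, C (e.symm i : k) * X ^ (i : ℕ)
  let φ : D → k[X] →+* k[X] := fun d => mapRingHom (MulSemiringAction.toRingHom D k d)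
  have hφa : ∀ (d : D) (i : Fin t.card), (φ d a).coeff i = d • (e.symm i : k) := fun d i => by
    simp only [φ, a, map_sum, map_mul, map_pow, coe_mapRingHom, map_C, map_X, finsetSum_coeff, coeff_C_mul,
      coeff_X_pow]
    rw [Finset.sum_eq_single i]
    · simp
    · intro j _ hj
      rw [if_neg (fun h => hj (Fin.ext h.symm)), mul_zero]
    · simp
  let O : Set k[X] := (fun d => φ d a) '' (S : Set D)
  have hfin : O.Finite := by
    refine (IsLocallyConstant.range_finite ?_).subset (Set.image_subset_range _ _)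
    rw [IsLocallyConstant.iff_exists_open]
    intro d
    refine ⟨⋂ i : Fin t.card, {d' : D | d' • (e.symm i : k) = d • (e.symm i : k)},
      isOpen_iInter_of_finite fun i => (isLocallyConstant_residue _).isOpen_fiber _,
      Set.mem_iInter.2 fun i => rfl, fun d' hd' => ?_⟩
    rw [Set.mem_iInter] at hd'
    simp only [φ, a, map_sum, map_mul, map_pow, coe_mapRingHom, map_C, map_X]
    exact Finset.sum_congr rfl fun i _ => by
      rw [MulSemiringAction.toRingHom_apply, MulSemiringAction.toRingHom_apply, hd' i]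
  let P : k[X][X] := ∏ w ∈ hfin.toFinset, (X - C w)
  have hφmul : ∀ (d d' : D) (w : k[X]), φ d (φ d' w) = φ (d * d') w := fun d d' w => by
    simp only [φ, coe_mapRingHom, Polynomial.map_map]
    congr 1
    exact RingHom.ext fun z => (mul_smul d d' z).symm
  have hφone : ∀ w, φ 1 w = w := fun w => by
    refine Polynomial.ext fun n => ?_
    simp [φ]
  have hP : ∀ s ∈ S, P.map (φ s) = P := fun s hs => by
    rw [Polynomial.map_prod]
    refine Finset.prod_bij (fun w _ => φ s w) (fun w hw => ?_) (fun w _ w' _ h => ?_)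
      (fun w hw => ?_) (fun w _ => by simp)
    · obtain ⟨d, hd, rfl⟩ := hfin.mem_toFinset.1 hw
      exact hfin.mem_toFinset.2 ⟨s * d, mul_mem hs hd, (hφmul s d a).symm⟩
    · have := congrArg (φ s⁻¹) h
      rwa [hφmul, hφmul, inv_mul_cancel, hφone, hφone] at this
    · obtain ⟨d, hd, rfl⟩ := hfin.mem_toFinset.1 hw
      exact ⟨φ (s⁻¹ * d) a, hfin.mem_toFinset.2 ⟨_, mul_mem (inv_mem hs) hd, rfl⟩, by
        rw [hφmul, mul_inv_cancel_left]⟩
  have hτP : P.map (φ τ) = P := by
    ext n m
    rw [coeff_map]
    simp only [φ, coe_mapRingHom, coeff_map]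
    refine hfix _ fun s hs => ?_
    conv_rhs => rw [← hP s hs, coeff_map]
    simp only [φ, coe_mapRingHom, coeff_map]
    rfl
  have hroot : eval (φ τ a) P = 0 := by
    rw [← hτP, eval_map, eval₂_hom]
    have h0 : eval a P = 0 := by
      rw [eval_prod]
      exact Finset.prod_eq_zero (i := a) (hfin.mem_toFinset.2 ⟨1, one_mem S, hφone a⟩) (by simp)
    rw [h0, map_zero]
  rw [eval_prod, Finset.prod_eq_zero_iff] at hroot
  obtain ⟨w, hw, hw0⟩ := hroot
  obtain ⟨d, hd, rfl⟩ := hfin.mem_toFinset.1 hw
  rw [eval_sub, eval_X, eval_C, sub_eq_zero] at hw0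
  obtain ⟨z, hz, hdz⟩ := Set.mem_iUnion₂.1 (ht hd)
  have := congrArg (fun w : k[X] => w.coeff (e ⟨z, hz⟩)) hw0
  simp only [hφa, Equiv.symm_apply_apply] at this
  exact hdz this.symm

/-- Translates of the residues of invariants are linearly independent over distinct cosets. -/
theorem exists_sum_ne_zero (H S : Subgroup D) (hS : IsClosed (S : Set D)) (hSH : S ≤ H)
    (hIS : H ⊓ B.inertiaSubgroup K ≤ S) {Q : Type u} [Fintype Q] (r : Q → D) (hr : ∀ c, r c ∈ H)
    (hinj : ∀ c c', (r c)⁻¹ * r c' ∈ S → c = c') (w : Q → k) (c₀ : Q) (hw : w c₀ ≠ 0) :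
    ∃ x : B, (∀ s ∈ S, s • x = x) ∧ ∑ c, w c * residue B (r c • x) ≠ 0 := by
  classical
  let M : Submonoid B :=
    { carrier := {x | ∀ s ∈ S, s • x = x}
      one_mem' := fun s _ => smul_one s
      mul_mem' := fun {x y} hx hy s hs => by rw [smul_mul', hx s hs, hy s hs] }
  let χ : Q → (M →* k) := fun c =>
    ((residue B : B →* k).comp (MulSemiringAction.toRingHom D B (r c) : B →* B)).comp M.subtype
  have hχ : Function.Injective χ := fun c c' h => by
    refine hinj c c' (mem_of_fixes_invariants H S hS hSH hIS _ (mul_mem (inv_mem (hr c)) (hr c'))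
      (smul_eq_of_residue S _ fun x hx => ?_))
    have := DFunLike.congr_fun h (⟨x, hx⟩ : M)
    change residue B (r c • x) = residue B (r c' • x) at this
    rw [IsLocalRing.ResidueField.residue_smul, IsLocalRing.ResidueField.residue_smul] at this
    rw [mul_smul, ← this, inv_smul_smul]
  by_contra hc
  push Not at hc
  have hli := (linearIndependent_monoidHom M k).comp χ hχ
  rw [Fintype.linearIndependent_iff] at hli
  refine hw (hli w (funext fun x => ?_) c₀)
  simpa [χ, Finset.sum_apply] using hc x.1 x.2

/-- Galois elements move field elements within their unit class. -/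
theorem exists_unit_mul (d : D) {x : L} (hx : x ≠ 0) : ∃ a : Bˣ, d • x = ((a : B) : L) * x := by
  obtain ⟨m, hm, hfix⟩ : ∃ m, 0 < m ∧ (d ^ m) • x = x := by
    have hfin : (Set.range fun i : ℕ => (d ^ i) • x).Finite :=
      (isLocallyConstant_smul x).range_finite.subset (Set.range_comp_subset_range (fun i : ℕ => d ^ i) fun e => e • x)
    obtain ⟨i, j, hij, he⟩ : ∃ i j : ℕ, i < j ∧ (d ^ i) • x = (d ^ j) • x := by
      obtain ⟨i, -, j, -, hij, he⟩ := Set.infinite_univ.exists_lt_map_eq_of_mapsTo
        (f := fun i : ℕ => (d ^ i) • x) (fun i _ => Set.mem_range_self i) hfin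
      exact ⟨i, j, hij, he⟩
    refine ⟨j - i, by omega, MulAction.injective (d ^ i) ?_⟩
    show (d ^ i) • ((d ^ (j - i)) • x) = (d ^ i) • x
    rw [← mul_smul, ← pow_add, show i + (j - i) = j by omega, he]
  have key : ∀ e : D, ∀ y : L, y ≠ 0 → (e ^ m) • y = y → ∀ ha : (e • y) / y ∈ B, IsUnit (⟨_, ha⟩ : B) := by
    intro e y hy hey ha
    let a : B := ⟨_, ha⟩
    have hprod : ∀ i : ℕ, (e ^ i) • y = ((∏ j ∈ Finset.range i, (e ^ j) • a : B) : L) * y := by
      intro i
      induction i with
      | zero => simp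
      | succ i ih =>
        rw [Finset.prod_range_succ, pow_succ, mul_smul]
        have he : e • y = (a : L) * y := (div_mul_cancel₀ _ hy).symm
        rw [he, smul_mul', ih, MulMemClass.coe_mul, smul_coe]
        ring
    have h1 := hprod m
    rw [hey] at h1
    have h2 : ((∏ j ∈ Finset.range m, (e ^ j) • a : B) : L) = 1 :=
      mul_right_cancel₀ hy (by rw [← h1, one_mul])
    have h3 : IsUnit (∏ j ∈ Finset.range m, (e ^ j) • a) := by
      rw [show (∏ j ∈ Finset.range m, (e ^ j) • a) = 1 from Subtype.ext h2]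
      exact isUnit_one
    rw [IsUnit.prod_iff] at h3
    simpa using h3 0 (Finset.mem_range.2 hm)
  rcases B.mem_or_inv_mem ((d • x) / x) with ha | ha
  · obtain ⟨a, ha'⟩ := key d x hx hfix ha
    exact ⟨a, by rw [ha']; exact (div_mul_cancel₀ _ hx).symm⟩
  · have hy : d • x ≠ 0 := fun h0 => hx (by simpa using congrArg (d⁻¹ • ·) h0)
    have hfix' : (d⁻¹ ^ m) • (d • x) = d • x := by
      rw [inv_pow, inv_smul_eq_iff, ← mul_smul, ← pow_succ, pow_succ', mul_smul, hfix]
    have ha2 : (d⁻¹ • (d • x)) / (d • x) ∈ B := by rwa [inv_smul_smul, ← inv_div]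
    obtain ⟨a, ha'⟩ := key d⁻¹ _ hy hfix' ha2
    refine ⟨a⁻¹, ?_⟩
    have hax : ((a : B) : L) * (d • x) = x := by
      rw [ha']
      exact (div_mul_cancel₀ _ hy).trans (inv_smul_smul d x)
    calc d • x = (((a⁻¹ : Bˣ) : B) : L) * (((a : B) : L) * (d • x)) := by
          rw [← mul_assoc, ← MulMemClass.coe_mul, Units.inv_mul, OneMemClass.coe_one, one_mul]
      _ = _ := by rw [hax]

/-- Roots of unity congruent to one, of order invertible in the residue field, are trivial. -/
theorem eq_one_of_pow_eq_one {l : ℕ} (hl : (l : k) ≠ 0) (ζ : B) (hζ : ζ ^ l = 1) (h1 : residue B ζ = 1) :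
    ζ = 1 := by
  have h : (∑ i ∈ Finset.range l, ζ ^ i) * (ζ - 1) = 0 := by rw [geom_sum_mul, hζ, sub_self]
  rcases mul_eq_zero.1 h with h0 | h0
  · refine absurd ?_ hl
    have := congrArg (residue B) h0
    simpa [map_sum, map_pow, h1] using this
  · exact sub_eq_zero.1 h0

/-- The residue field of a separably closed valued field has all Artin–Schreier roots. -/
theorem exists_artinSchreier [IsSepClosed L] (p : ℕ) [Fact p.Prime] [CharP k p] (a : k) :
    ∃ r : k, r ^ p - r = a := by
  obtain ⟨a', rfl⟩ := IsLocalRing.residue_surjective a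
  have hp1 : 1 < p := (Fact.out : p.Prime).one_lt
  let P : L[X] := X ^ p - X - C (a' : L)
  have hdeg : P.natDegree = p := by
    simp only [P]
    rw [natDegree_sub_C, natDegree_sub_eq_left_of_natDegree_lt (by simp [hp1]), natDegree_X_pow]
  obtain ⟨r, hr⟩ : ∃ r : L, IsRoot P r := by
    rcases CharP.exists L with ⟨q, hq⟩
    rcases CharP.char_is_prime_or_zero L q with hq' | rfl
    · -- positive characteristic: the polynomial is separable
      haveI := Fact.mk hq'
      have hqp : q = p := by
        haveI : CharP B q :=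
          CharP.subsemiring L q B.toSubring.toSubsemiring
        have h1 : ((q : ℕ) : k) = 0 := by
          rw [← map_natCast (residue B), CharP.cast_eq_zero, map_zero]
        exact ((Nat.prime_dvd_prime_iff_eq (Fact.out : p.Prime) hq').1 ((CharP.cast_eq_zero_iff k p q).1 h1)).symm
      subst hqp
      have hsep : P.Separable := by
        rw [separable_def]
        have : derivative P = -1 := by simp [P, derivative_X_pow, CharP.cast_eq_zero L q]
        rw [this]
        exact isCoprime_one_right.neg_right
      exact IsSepClosed.exists_root P (fun h => by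
        have := natDegree_eq_of_degree_eq_some (n := 0) h
        omega) hsep
    · haveI : CharZero L := CharP.charP_to_charZero L
      haveI : IsAlgClosed L := inferInstance
      exact IsAlgClosed.exists_root P (fun h => by
        have := natDegree_eq_of_degree_eq_some (n := 0) h
        omega)
  have hr' : r ^ p - r = (a' : L) := by
    simpa [P, sub_eq_zero] using hr
  have hrB : r ∈ B := by
    rcases B.mem_or_inv_mem r with h | h
    · exact h
    by_cases hr0 : r = 0
    · rw [hr0]; exact B.zero_mem
    by_contra hcon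
    have hu : ¬ IsUnit (⟨r⁻¹, h⟩ : B) := fun hu => hcon (by
      obtain ⟨v, hv⟩ := hu.exists_right_inv
      have : (v : L) = r := by
        have h2 : r⁻¹ * (v : L) = 1 := congrArg Subtype.val hv
        field_simp at h2
        exact h2
      exact this ▸ v.2)
    obtain ⟨n, rfl⟩ : ∃ n, p = n + 2 := ⟨p - 2, by omega⟩
    have h3 : (1 : B) = ⟨r⁻¹, h⟩ * (⟨r⁻¹, h⟩ ^ n + a' * ⟨r⁻¹, h⟩ ^ (n + 1)) := by
      refine Subtype.ext ?_
      push_cast
      rw [← hr', inv_pow, inv_pow]
      field_simp
      ring
    exact hu (IsUnit.of_mul_eq_one _ h3.symm)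
  exact ⟨residue B ⟨r, hrB⟩, by rw [← map_pow, ← map_sub]; exact congrArg _ (Subtype.ext hr')⟩

end Groth.Agent.H9GalCoh.Complement
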