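import Groth.Agent.H9GalCoh.Complement.Residue

/-!
# Minimal supplements of inertia: no tame part
-/

set_option autoImplicit false
set_option linter.style.haveILetI false

universe u

open IsLocalRing
open scoped Pointwise

namespace Groth.Agent.H9GalCoh.Complement

variable {K L : Type u} [Field K] [Field L] [Algebra K L] {B : ValuationSubring L}

local notation "D" => B.decompositionSubgroup K
local notation "k" => IsLocalRing.ResidueField B

/-- A closed subgroup which is minimal among those supplementing its inertia part. -/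
structure IsMinimalSupplement (H : Subgroup D) : Prop where
  closed : IsClosed (H : Set D)
  minimal : ∀ H₁ : Subgroup D, IsClosed (H₁ : Set D) → H₁ ≤ H →
    (∀ h ∈ H, ∃ n ∈ H ⊓ B.inertiaSubgroup K, h * n ∈ H₁) → H₁ = H

variable {l : ℕ}

theorem mem_of_pow_mem {v : L} {l : ℕ} (hl : 0 < l) (h : v ^ l ∈ B) : v ∈ B := by
  rw [← B.valuation_le_one_iff] at h ⊢
  rw [map_pow] at h
  exact (pow_le_one_iff hl.ne').1 h

/-- Inertia fixes roots of invariant units of order prime to the residue characteristic. -/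
theorem unit_root_fixed (hlk : (l : k) ≠ 0) (z : Bˣ) (n : D) (hn : n ∈ B.inertiaSubgroup K)
    (hfix : n • (z : B) ^ l = (z : B) ^ l) : n • (z : B) = z := by
  let ζ : B := n • (z : B) * ((z⁻¹ : Bˣ) : B)
  have hζ : ζ ^ l = 1 := by
    rw [mul_pow, ← smul_pow', hfix, ← mul_pow, Units.mul_inv, one_pow]
  have h1 : residue B ζ = 1 := by
    rw [map_mul, IsLocalRing.ResidueField.residue_smul, mem_inertia.1 hn, ← map_mul, Units.mul_inv, map_one]
  have h2 := eq_one_of_pow_eq_one hlk ζ hζ h1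
  calc n • (z : B) = ζ * z := by simp [ζ, mul_assoc]
    _ = z := by rw [h2, one_mul]

/-- Inertia fixes roots of units. -/
theorem unit_root_fixed' (hl : 0 < l) (hlk : (l : k) ≠ 0) {v : L} (n : D) (hn : n ∈ B.inertiaSubgroup K)
    (u : Bˣ) (hv : v ^ l = ((u : B) : L)) (hfix : n • v ^ l = v ^ l) : n • v = v := by
  have hvB : v ∈ B := mem_of_pow_mem hl (hv ▸ (u : B).2)
  obtain ⟨w, hw⟩ : IsUnit (⟨v, hvB⟩ : B) := by
    have : IsUnit ((⟨v, hvB⟩ : B) ^ l) := ⟨u, Subtype.ext hv.symm⟩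
    exact (isUnit_pow_iff hl.ne').1 this
  have h := unit_root_fixed hlk w n hn (by rw [hw]; exact Subtype.ext hfix)
  rw [hw] at h
  exact congrArg Subtype.val h

theorem root_of_unity_fixed (hl : 0 < l) (hlk : (l : k) ≠ 0) {ζ : L} (hζ : ζ ^ l = 1) (n : D)
    (hn : n ∈ B.inertiaSubgroup K) : n • ζ = ζ :=
  unit_root_fixed' hl hlk n hn 1 hζ (by rw [hζ, smul_one])

variable [IsGalois K L]

/-- In a minimal supplement, inertia fixes the roots of invariant elements. -/
theorem IsMinimalSupplement.root_fixed {H : Subgroup D} (hH : IsMinimalSupplement H) (hl : l.Prime) (hlk : (l : k) ≠ 0)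
    {z : L} (hfix : ∀ h ∈ H, h • z ^ l = z ^ l) {n : D} (hn : n ∈ H ⊓ B.inertiaSubgroup K) : n • z = z := by
  by_contra hne
  have hz : z ≠ 0 := fun h => hne (by rw [h, smul_zero])
  haveI : NeZero l := ⟨hl.ne_zero⟩
  let ζ₀ := (n • z) / z
  have hroot : ∀ h ∈ H, ((h • z) / z) ^ l = 1 := fun h hh => by
    rw [div_pow, ← smul_pow', hfix h hh, div_self (pow_ne_zero _ hz)]
  have hprim : IsPrimitiveRoot ζ₀ l := by
    refine IsPrimitiveRoot.iff_orderOf.2 ?_
    haveI := Fact.mk hl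
    exact orderOf_eq_prime (hroot n hn.1) fun h1 => hne ((div_eq_one_iff_eq hz).1 h1)
  have hζ₀ : n • ζ₀ = ζ₀ := root_of_unity_fixed hl.pos hlk (hroot n hn.1) n hn.2
  have hpow : ∀ i : ℕ, (n ^ i) • z = ζ₀ ^ i * z := fun i => by
    induction i with
    | zero => simp
    | succ i ih =>
      have e : n • z = ζ₀ * z := (div_mul_cancel₀ _ hz).symm
      rw [pow_succ', mul_smul, ih, smul_mul', smul_pow', hζ₀, e, pow_succ, mul_assoc]
  let H₁ : Subgroup D := H ⊓ MulAction.stabilizer D z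
  have hH₁ : H₁ = H := hH.minimal H₁ (isClosed_subgroup hH.closed (isOpen_stabilizer z) inf_le_left le_rfl)
    inf_le_left fun h hh => by
      obtain ⟨i, -, hi⟩ := hprim.eq_pow_of_pow_eq_one (hroot h⁻¹ (H.inv_mem hh))
      refine ⟨n ^ i, Subgroup.pow_mem _ hn i, ⟨H.mul_mem hh (H.pow_mem hn.1 i), ?_⟩⟩
      show (h * n ^ i) • z = z
      rw [mul_smul, hpow, hi, div_mul_cancel₀ _ hz, smul_inv_smul]
  exact hne (hH₁.ge hn.1).2

/-- An element fixed by inertia has, up to a unit, a multiple fixed by the supplement. -/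
theorem exists_invariant {H : Subgroup D} (hHc : IsClosed (H : Set D)) {x : L} (hx : x ≠ 0)
    (hfix : ∀ n : D, n ∈ H ⊓ B.inertiaSubgroup K → n • x = x) :
    ∃ u : Bˣ, ∀ h ∈ H, h • (((u : B) : L) * x) = ((u : B) : L) * x := by
  classical
  let S : Subgroup D := H ⊓ MulAction.stabilizer D x
  have hS : IsClosed (S : Set D) := isClosed_subgroup hHc (isOpen_stabilizer x) inf_le_left le_rfl
  haveI : CompactSpace H := isCompact_iff_compactSpace.1 hHc.isCompact
  let S' : Subgroup H := S.subgroupOf H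
  have hS'o : IsOpen (S' : Set H) := by
    have : (S' : Set H) = Subtype.val ⁻¹' (MulAction.stabilizer D x : Set D) := by
      ext h
      exact ⟨fun hh => hh.2, fun hh => ⟨h.2, hh⟩⟩
    rw [this]
    exact (isOpen_stabilizer x).preimage continuous_subtype_val
  haveI : Finite (H ⧸ S') := Subgroup.quotient_finite_of_isOpen S' hS'o
  haveI := Fintype.ofFinite (H ⧸ S')
  let r : H ⧸ S' → D := fun c => ((c.out : H) : D)
  choose a ha using fun c => exists_unit_mul (B := B) (r c) hx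
  obtain ⟨z, hz, hsum⟩ := exists_sum_ne_zero H S hS inf_le_left (fun n hn => ⟨hn.1, hfix n hn⟩) r
    (fun c => (c.out : H).2) (fun c c' h => by
      rw [← c.out_eq, ← c'.out_eq]
      exact QuotientGroup.eq.2 h) (fun c => residue B (a c : B)) (QuotientGroup.mk 1)
    (((a _).isUnit.map (residue B)).ne_zero)
  let s : B := ∑ c, (a c : B) * (r c • z)
  have hs : IsUnit s := (IsLocalRing.residue_ne_zero_iff_isUnit s).1 (by simpa [s, map_sum, map_mul] using hsum)
  refine ⟨hs.unit, fun h hh => ?_⟩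
  have hm : ((hs.unit : B) : L) * x = ∑ c, r c • ((z : L) * x) := by
    rw [IsUnit.unit_spec]
    show ((s : B) : L) * x = _
    simp only [s, AddSubmonoidClass.coe_finset_sum, MulMemClass.coe_mul, Finset.sum_mul]
    refine Finset.sum_congr rfl fun c _ => ?_
    rw [smul_mul', ha, smul_coe]
    ring
  rw [hm, Finset.smul_sum]
  refine Fintype.sum_equiv (MulAction.toPerm (⟨h, hh⟩ : H)) _ _ fun c => ?_
  rw [← mul_smul]
  have hc : ((MulAction.toPerm (⟨h, hh⟩ : H)) c).out⁻¹ * ((⟨h, hh⟩ : H) * c.out) ∈ S' := by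
    rw [← QuotientGroup.eq, QuotientGroup.out_eq']
    show (⟨h, hh⟩ : H) • c = _
    conv_lhs => rw [← QuotientGroup.out_eq' c]
    rfl
  obtain ⟨hc1, hc2⟩ := hc
  have hfixzx : (((MulAction.toPerm (⟨h, hh⟩ : H)) c).out⁻¹ * ((⟨h, hh⟩ : H) * c.out) : D) • ((z : L) * x) =
      (z : L) * x := by
    rw [smul_mul']
    exact congrArg₂ (· * ·) (congrArg Subtype.val (hz _ ⟨hc1, hc2⟩)) hc2
  rw [mul_smul] at hfixzx
  exact (inv_smul_eq_iff (g := ((((MulAction.toPerm (⟨h, hh⟩ : H)) c).out : H) : D))).1 hfixzx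

/-- In a minimal supplement, inertia fixes all roots of its invariants. -/
theorem IsMinimalSupplement.root_fixed_of_inertia {H : Subgroup D} [IsSepClosed L] (hH : IsMinimalSupplement H) (hl : l.Prime)
    (hlk : (l : k) ≠ 0) {y : L} (hfix : ∀ n ∈ H ⊓ B.inertiaSubgroup K, n • y ^ l = y ^ l) {n : D}
    (hn : n ∈ H ⊓ B.inertiaSubgroup K) : n • y = y := by
  by_cases hy : y = 0
  · rw [hy, smul_zero]
  obtain ⟨u, hu⟩ := exists_invariant hH.closed (pow_ne_zero l hy) hfix
  haveI : NeZero (l : L) := ⟨fun h => hlk (by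
    have : (l : B) = 0 := Subtype.ext (by simpa using h)
    simpa using congrArg (residue B) this)⟩
  obtain ⟨y₀, hy₀⟩ := IsSepClosed.exists_pow_nat_eq (((u : B) : L) * y ^ l) l
  have h0 : n • y₀ = y₀ := hH.root_fixed hl hlk (fun h hh => by rw [hy₀, hu h hh]) hn
  have hv : (y₀ / y) ^ l = ((u : B) : L) := by
    rw [div_pow, hy₀, mul_div_assoc, div_self (pow_ne_zero l hy), mul_one]
  have h1 : n • (y₀ / y) = y₀ / y := unit_root_fixed' hl.pos hlk n hn.2 u hv (by
    rw [div_pow, smul_div₀', hfix n hn, smul_pow', h0])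
  have hy₀0 : y₀ ≠ 0 := fun h => by
    rw [h, zero_pow hl.ne_zero] at hy₀
    exact mul_ne_zero (fun hu0 => u.ne_zero (Subtype.ext hu0)) (pow_ne_zero l hy) hy₀.symm
  rw [smul_div₀', h0, div_eq_mul_inv, div_eq_mul_inv] at h1
  exact inv_injective (mul_left_cancel₀ hy₀0 h1)

/-- In a minimal supplement, the inertia part has no quotient of order prime to the residue characteristic. -/
theorem IsMinimalSupplement.hom_eq_zero {H : Subgroup D} [IsSepClosed L] (hH : IsMinimalSupplement H) (hl : l.Prime)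
    (hlk : (l : k) ≠ 0) (f : D → ZMod l)
    (hadd : ∀ a ∈ H ⊓ B.inertiaSubgroup K, ∀ b ∈ H ⊓ B.inertiaSubgroup K, f (a * b) = f a + f b)
    (U : Subgroup D) (hU : IsOpen (U : Set D))
    (hf : ∀ a ∈ H ⊓ B.inertiaSubgroup K, a ∈ U → f a = 0)
    (hIc : IsClosed (B.inertiaSubgroup K : Set D))
    {σ : D} (hσ : σ ∈ H ⊓ B.inertiaSubgroup K) : f σ = 0 := by
  classical
  haveI := Fact.mk hl
  by_contra hne
  set N := H ⊓ B.inertiaSubgroup K with hN
  have hf1 : f 1 = 0 := by
    have := hadd 1 (one_mem N) 1 (one_mem N)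
    rw [mul_one] at this
    exact left_eq_add.1 this
  have hfinv : ∀ a ∈ N, f a⁻¹ = -f a := fun a ha => by
    have := hadd a ha a⁻¹ (inv_mem ha)
    rw [mul_inv_cancel, hf1] at this
    exact (neg_eq_of_add_eq_zero_right this.symm).symm
  have hfpow : ∀ i : ℕ, f (σ ^ i) = i * f σ := fun i => by
    induction i with
    | zero => simpa using hf1
    | succ i ih => rw [pow_succ, hadd _ (pow_mem hσ i) _ hσ, ih]; push_cast; ring
  let W : Subgroup D :=
    { carrier := {a | a ∈ N ∧ f a = 0}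
      one_mem' := ⟨one_mem N, hf1⟩
      mul_mem' := fun {a b} ha hb => ⟨mul_mem ha.1 hb.1, by rw [hadd a ha.1 b hb.1, ha.2, hb.2, add_zero]⟩
      inv_mem' := fun {a} ha => ⟨inv_mem ha.1, by rw [hfinv a ha.1, ha.2, neg_zero]⟩ }
  have hNc : IsClosed (N : Set D) := hH.closed.inter hIc
  have hWc : IsClosed (W : Set D) :=
    isClosed_subgroup hNc hU (fun a ha => ha.1) fun a ha => ⟨ha.1, hf a ha.1 ha.2⟩
  have hDc : IsClosed (D : Set (L ≃ₐ[K] L)) :=
    (isCompact_iff_compactSpace.2 (inferInstanceAs (CompactSpace D))).isClosed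
  let WG : ClosedSubgroup (L ≃ₐ[K] L) := ⟨W.map (B.decompositionSubgroup K).subtype, by
    show IsClosed (Subtype.val '' (W : Set D))
    exact hDc.isClosedEmbedding_subtypeVal.isClosedMap _ hWc⟩
  obtain ⟨z, hz, hσz⟩ : ∃ z : L, (∀ a ∈ W, a • z = z) ∧ σ • z ≠ z := by
    by_contra hc
    push Not at hc
    have : (σ : L ≃ₐ[K] L) ∈ (IntermediateField.fixedField WG.1).fixingSubgroup := by
      rw [IntermediateField.mem_fixingSubgroup_iff]
      exact fun z hz => hc z fun a ha => hz ⟨_, ⟨a, ha, rfl⟩⟩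
    rw [InfiniteGalois.fixingSubgroup_fixedField WG] at this
    obtain ⟨a, ha, hae⟩ := this
    exact hne ((Subtype.ext hae : a = σ) ▸ ha.2)
  haveI : NeZero (l : L) := ⟨fun h => hlk (by
    have : (l : B) = 0 := Subtype.ext (by simpa using h)
    simpa using congrArg (residue B) this)⟩
  haveI : NeZero l := ⟨hl.ne_zero⟩
  obtain ⟨ζ, hζ⟩ := HasEnoughRootsOfUnity.exists_primitiveRoot L l
  have hζfix : ∀ a ∈ N, ∀ i : ℕ, a • ζ ^ i = ζ ^ i := fun a ha i =>
    root_of_unity_fixed hl.pos hlk (by rw [← pow_mul, mul_comm, pow_mul, hζ.pow_eq_one, one_pow]) a ha.2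
  have hWi : ∀ a ∈ W, ∀ i : ℕ, a • ((σ ^ i) • z) = (σ ^ i) • z := fun a ha i => by
    have hmem : (σ ^ i)⁻¹ * a * σ ^ i ∈ W := by
      refine ⟨mul_mem (mul_mem (inv_mem (pow_mem hσ i)) ha.1) (pow_mem hσ i), ?_⟩
      rw [hadd _ (mul_mem (inv_mem (pow_mem hσ i)) ha.1) _ (pow_mem hσ i),
        hadd _ (inv_mem (pow_mem hσ i)) _ ha.1, hfinv _ (pow_mem hσ i), ha.2]
      ring
    have := hz _ hmem
    rwa [mul_smul, mul_smul, inv_smul_eq_iff] at this
  have hσl : (σ ^ l) • z = z := hz _ ⟨pow_mem hσ l, by rw [hfpow, ZMod.natCast_self, zero_mul]⟩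
  let y : ℕ → L := fun j => ∑ i ∈ Finset.range l, ζ ^ (i * j) * ((σ ^ i) • z)
  have hyW : ∀ j, ∀ a ∈ W, a • y j = y j := fun j a ha => by
    simp only [y, Finset.smul_sum, smul_mul', hWi a ha, hζfix a ha.1]
  have hσy : ∀ j, ζ ^ j * (σ • y j) = y j := fun j => by
    simp only [y, Finset.smul_sum, smul_mul', hζfix σ hσ, Finset.mul_sum]
    have e : ∀ i, ζ ^ j * (ζ ^ (i * j) * (σ • ((σ ^ i) • z))) = ζ ^ ((i + 1) * j) * ((σ ^ (i + 1)) • z) := by
      intro i
      rw [← mul_smul, ← pow_succ', ← mul_assoc, ← pow_add, show j + i * j = (i + 1) * j by ring]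
    simp only [e]
    have h1 := Finset.sum_range_succ' (fun i => ζ ^ (i * j) * ((σ ^ i) • z)) l
    have h2 := Finset.sum_range_succ (fun i => ζ ^ (i * j) * ((σ ^ i) • z)) l
    rw [h2, hσl, show ζ ^ (l * j) = 1 by rw [pow_mul, hζ.pow_eq_one, one_pow]] at h1
    simp only [zero_mul, pow_zero, one_smul, one_mul, add_left_inj] at h1
    exact h1.symm
  obtain ⟨j, hj⟩ : ∃ j, σ • y j ≠ y j := by
    by_contra hc
    push Not at hc
    refine hσz ?_
    have hsum : ∑ j ∈ Finset.range l, y j = (l : L) * z := by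
      simp only [y]
      rw [Finset.sum_comm, Finset.sum_eq_single_of_mem 0 (Finset.mem_range.2 hl.pos) fun i hi hi0 => by
        rw [← Finset.sum_mul]
        simp_rw [pow_mul]
        have hne1 : ζ ^ i ≠ 1 := hζ.pow_ne_one_of_pos_of_lt hi0 (Finset.mem_range.1 hi)
        rw [geom_sum_eq hne1, show (ζ ^ i) ^ l = 1 by rw [← pow_mul, mul_comm i l, pow_mul, hζ.pow_eq_one, one_pow],
          sub_self, zero_div, zero_mul]]
      simp
    have h1 : σ • ((l : L) * z) = (l : L) * z := by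
      rw [← hsum, Finset.smul_sum]
      exact Finset.sum_congr rfl fun j _ => hc j
    rw [smul_mul', show σ • (l : L) = l from map_natCast (MulSemiringAction.toRingHom D L σ) l] at h1
    exact mul_left_cancel₀ (NeZero.ne (l : L)) h1
  have hσyl : σ • y j ^ l = y j ^ l := by
    rw [smul_pow']
    conv_rhs => rw [← hσy j, mul_pow, ← pow_mul, mul_comm j, pow_mul, hζ.pow_eq_one, one_pow, one_mul]
  refine hj (hH.root_fixed_of_inertia hl hlk (fun n hn => ?_) hσ)
  -- every element of the inertia part is a power of `σ` times an element of `W`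
  let i := (f n * (f σ)⁻¹).val
  have hw : (σ ^ i)⁻¹ * n ∈ W := ⟨mul_mem (inv_mem (pow_mem hσ i)) hn, by
    rw [hadd _ (inv_mem (pow_mem hσ i)) _ hn, hfinv _ (pow_mem hσ i), hfpow, ZMod.natCast_zmod_val,
      mul_assoc, inv_mul_cancel₀ hne, mul_one, neg_add_cancel]⟩
  have e1 : n • y j ^ l = (σ ^ i) • (((σ ^ i)⁻¹ * n) • y j ^ l) := by rw [← mul_smul, mul_inv_cancel_left]
  rw [e1, smul_pow', hyW j _ hw]
  have : ∀ m : ℕ, (σ ^ m) • y j ^ l = y j ^ l := fun m => by
    induction m with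
    | zero => simp
    | succ m ih => rw [pow_succ, mul_smul, hσyl, ih]
  exact this i

end Groth.Agent.H9GalCoh.Complement
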