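import Groth.Agent.H9GalCoh.Complement.Tame

/-!
# Minimal supplements of inertia: no wild part

Embedding problems with kernel of exponent `p` over a residue field of characteristic `p` are solved by
Artin–Schreier theory, written out with explicit cocycles.
-/

set_option autoImplicit false
set_option linter.style.haveILetI false

universe u

open IsLocalRing
open scoped Pointwise

namespace Groth.Agent.H9GalCoh.Complement

variable {K L : Type u} [Field K] [Field L] [Algebra K L] {B : ValuationSubring L}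

local notation "D" => B.decompositionSubgroup K
local notation "k" => IsLocalRing.ResidueField B

theorem exists_zmod_of_pow_eq (p : ℕ) [Fact p.Prime] {F : Type u} [Field F] [CharP F p] [Algebra (ZMod p) F]
    (x : F) (hx : x ^ p = x) : ∃ a : ZMod p, algebraMap (ZMod p) F a = x := by
  classical
  let P : Polynomial F := Polynomial.X ^ p - Polynomial.X
  have hdeg : P.natDegree = p := FiniteField.X_pow_card_sub_X_natDegree_eq F (Fact.out : p.Prime).one_lt
  have hP : P ≠ 0 := fun h => by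
    rw [h, Polynomial.natDegree_zero] at hdeg
    exact (Fact.out : p.Prime).ne_zero hdeg.symm
  have hsub : Finset.univ.image (algebraMap (ZMod p) F) ⊆ P.roots.toFinset := fun y hy => by
    obtain ⟨a, -, rfl⟩ := Finset.mem_image.1 hy
    rw [Multiset.mem_toFinset, Polynomial.mem_roots hP]
    show P.eval _ = 0
    simp [P, ← map_pow]
  have hcard : P.roots.toFinset.card ≤ (Finset.univ.image (algebraMap (ZMod p) F)).card := by
    rw [Finset.card_image_of_injective _ (algebraMap (ZMod p) F).injective, Finset.card_univ, ZMod.card]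
    exact ((Multiset.toFinset_card_le _).trans (Polynomial.card_roots' P)).trans hdeg.le
  have hxr : x ∈ P.roots.toFinset := by
    rw [Multiset.mem_toFinset, Polynomial.mem_roots hP]
    show P.eval x = 0
    simp [P, hx]
  rw [← Finset.eq_of_subset_of_card_le hsub hcard] at hxr
  obtain ⟨a, -, ha⟩ := Finset.mem_image.1 hxr
  exact ⟨a, ha⟩

variable [IsGalois K L] [IsSepClosed L]

theorem IsMinimalSupplement.eq_one_of_wild_aux {H : Subgroup D} (hH : IsMinimalSupplement H) (p : ℕ) [Fact p.Prime]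
    [CharP k p] {E : Type u} [Group E] [Finite E] (ψ : H →* E) (V : Subgroup E) [V.Normal]
    {A : Type u} [AddCommGroup A] [Module (ZMod p) A] [Finite A] (e : Additive V ≃+ A)
    (hcomm : ∀ a ∈ V, ∀ b ∈ V, a * b = b * a)
    (U : Subgroup D) (hU : IsOpen (U : Set D)) (hker : ∀ h : H, (h : D) ∈ U → ψ h = 1)
    (himg : ∀ v ∈ V, ∃ n : H, (n : D) ∈ B.inertiaSubgroup K ∧ ψ n = v)
    (hNV : ∀ n : H, (n : D) ∈ B.inertiaSubgroup K → ψ n ∈ V) {v₀ : E} (hv₀ : v₀ ∈ V) : v₀ = 1 := by
  classical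
  letI : Algebra (ZMod p) k := ZMod.algebra k p
  let ρ : H → A →ₗ[ZMod p] A := fun h => AddMonoidHom.toZModLinearMap p
    ((e.toAddMonoidHom.comp (MonoidHom.toAdditive ((MulAut.conjNormal (ψ h) : MulAut V) : V →* V))).comp
      e.symm.toAddMonoidHom)
  have hρ : ∀ (h : H) (x : A), ((Additive.toMul (e.symm (ρ h x)) : V) : E) = ψ h * (Additive.toMul (e.symm x) : V) * (ψ h)⁻¹ :=
    fun h x => by
      show ((Additive.toMul (e.symm (e _)) : V) : E) = _
      rw [e.symm_apply_apply]
      rfl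
  have Aext : ∀ {x y : A}, ((Additive.toMul (e.symm x) : V) : E) = (Additive.toMul (e.symm y) : V) → x = y :=
    fun h => e.symm.injective (Additive.toMul.injective (Subtype.ext h))
  have hρmul : ∀ h h' : H, ρ (h * h') = (ρ h).comp (ρ h') := fun h h' => LinearMap.ext fun x => Aext (by
    rw [LinearMap.comp_apply, hρ, hρ, hρ, map_mul]; group)
  have hρone : ∀ h : H, ψ h ∈ V → ρ h = LinearMap.id := fun h hh => LinearMap.ext fun x => Aext (by
    rw [hρ, LinearMap.id_apply, hcomm _ hh _ (Additive.toMul (e.symm x)).2, mul_inv_cancel_right])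
  let r : H → k →ₗ[ZMod p] k := fun h =>
    AddMonoidHom.toZModLinearMap p (MulSemiringAction.toRingHom D k (h : D)).toAddMonoidHom
  let act : H → (Module.Dual (ZMod p) A →ₗ[ZMod p] k) → (Module.Dual (ZMod p) A →ₗ[ZMod p] k) := fun h w => (r h).comp (w.comp (ρ h).dualMap)
  have act_apply : ∀ (h : H) (w : (Module.Dual (ZMod p) A →ₗ[ZMod p] k)) (ξ : (Module.Dual (ZMod p) A)), act h w ξ = (h : D) • w (ξ.comp (ρ h)) := fun _ _ _ => rfl
  have act_add : ∀ h (w w' : (Module.Dual (ZMod p) A →ₗ[ZMod p] k)), act h (w + w') = act h w + act h w' := fun h w w' =>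
    LinearMap.ext fun ξ => by simp only [act_apply, LinearMap.add_apply, smul_add]
  have act_sub : ∀ h (w w' : (Module.Dual (ZMod p) A →ₗ[ZMod p] k)), act h (w - w') = act h w - act h w' := fun h w w' =>
    LinearMap.ext fun ξ => by simp only [act_apply, LinearMap.sub_apply, smul_sub]
  have act_mul : ∀ h h' (w : (Module.Dual (ZMod p) A →ₗ[ZMod p] k)), act (h * h') w = act h (act h' w) := fun h h' w => LinearMap.ext fun ξ => by
    simp only [act_apply, hρmul, Subgroup.coe_mul, mul_smul, LinearMap.comp_assoc]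
  have act_smul : ∀ h (a : k) (w : (Module.Dual (ZMod p) A →ₗ[ZMod p] k)), act h (a • w) = ((h : D) • a) • act h w := fun h a w =>
    LinearMap.ext fun ξ => by simp only [act_apply, LinearMap.smul_apply, smul_eq_mul, smul_mul']
  have act_sum : ∀ h {ι : Type u} (s : Finset ι) (w : ι → (Module.Dual (ZMod p) A →ₗ[ZMod p] k)), act h (∑ i ∈ s, w i) = ∑ i ∈ s, act h (w i) :=
    fun h ι s w => LinearMap.ext fun ξ => by simp only [act_apply, LinearMap.sum_apply, Finset.smul_sum]
  let emb : A →ₗ[ZMod p] (Module.Dual (ZMod p) A →ₗ[ZMod p] k) := (LinearMap.compRight (ZMod p) (Algebra.linearMap (ZMod p) k)).comp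
    (Module.Dual.eval (ZMod p) A)
  have emb_apply : ∀ x ξ, emb x ξ = algebraMap (ZMod p) k (ξ x) := fun _ _ => rfl
  have hrfix : ∀ (d : D) (a : ZMod p), d • algebraMap (ZMod p) k a = algebraMap (ZMod p) k a := fun d a => by
    rw [← ZMod.natCast_zmod_val a, map_natCast]
    exact map_natCast (MulSemiringAction.toRingHom D k d) _
  have act_emb : ∀ h x, act h (emb x) = emb (ρ h x) := fun h x => LinearMap.ext fun ξ => by
    rw [act_apply, emb_apply, emb_apply, LinearMap.comp_apply, hrfix]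
  have emb_inj : Function.Injective emb := fun x y hxy => Module.eval_apply_injective (ZMod p)
    (LinearMap.ext fun ξ => (algebraMap (ZMod p) k).injective (LinearMap.congr_fun hxy ξ))
  -- the finite quotient and an element of trace one
  let S : Subgroup H := V.comap ψ
  haveI : S.Normal := inferInstance
  haveI : Finite (H ⧸ S) := Finite.of_injective
    (QuotientGroup.map S V ψ le_rfl) (fun a b hab => by
      obtain ⟨a, rfl⟩ := QuotientGroup.mk_surjective a
      obtain ⟨b, rfl⟩ := QuotientGroup.mk_surjective b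
      rw [QuotientGroup.map_mk, QuotientGroup.map_mk, QuotientGroup.eq, ← map_inv, ← map_mul] at hab
      exact QuotientGroup.eq.2 hab)
  haveI := Fintype.ofFinite (H ⧸ S)
  let SD : Subgroup D := S.map H.subtype
  have hSDH : SD ≤ H := by rintro _ ⟨x, -, rfl⟩; exact x.2
  have hSDc : IsClosed (SD : Set D) := isClosed_subgroup hH.closed hU hSDH fun d hd =>
    ⟨⟨d, hd.1⟩, show ψ _ ∈ V by rw [hker ⟨d, hd.1⟩ hd.2]; exact one_mem V, rfl⟩
  obtain ⟨z, hz, hne⟩ := exists_sum_ne_zero H SD hSDc hSDH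
    (fun d hd => ⟨⟨d, hd.1⟩, hNV ⟨d, hd.1⟩ hd.2, rfl⟩) (fun c : H ⧸ S => ((c.out : H) : D)) (fun c => c.out.2)
    (fun c c' h => by
      obtain ⟨x, hx, hxe⟩ := h
      rw [← c.out_eq, ← c'.out_eq]
      refine QuotientGroup.eq.2 ?_
      rwa [show c.out⁻¹ * c'.out = x from Subtype.ext hxe.symm])
    (fun _ => (1 : k)) (QuotientGroup.mk 1) one_ne_zero
  let ev : H → k := fun h => (h : D) • residue B z
  have hev : ∀ h h' : H, (h : H ⧸ S) = h' → ev h = ev h' := fun h h' e => by
    have h2 := hz _ ⟨h⁻¹ * h', QuotientGroup.eq.1 e, rfl⟩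
    have h3 : (h : D)⁻¹ • (h' : D) • residue B z = residue B z := by
      rw [← mul_smul, ← IsLocalRing.ResidueField.residue_smul]
      exact congrArg (residue B) h2
    exact (inv_smul_eq_iff.1 h3).symm
  let t : k := ∑ c : H ⧸ S, ev c.out
  have ht : t ≠ 0 := by simpa [t, ev, IsLocalRing.ResidueField.residue_smul] using hne
  let θ : H ⧸ S → k := fun c => ev c.out / t
  have hθ1 : ∑ c, θ c = 1 := by rw [← Finset.sum_div, div_self ht]
  have hevmul : ∀ (h : H) (c : H ⧸ S), (h : D) • ev c.out = ev ((h : H ⧸ S) * c).out := fun h c => by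
    rw [← mul_smul]
    exact hev (h * c.out) _ (by rw [QuotientGroup.mk_mul, QuotientGroup.out_eq', QuotientGroup.out_eq'])
  have htfix : ∀ h : H, (h : D) • t = t := fun h => by
    rw [Finset.smul_sum]
    simp only [hevmul]
    exact Equiv.sum_comp (Equiv.mulLeft (h : H ⧸ S)) fun c => ev c.out
  have hθmul : ∀ (h : H) (c : H ⧸ S), (h : D) • θ c = θ ((h : H ⧸ S) * c) := fun h c => by
    simp only [θ]
    rw [smul_div₀', hevmul, htfix]
  -- the cocycle with values in `(Module.Dual (ZMod p) A →ₗ[ZMod p] k)`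
  let s : H ⧸ S → E := fun c => ψ c.out
  have hlam : ∀ (h : H) (c : H ⧸ S), s ((h : H ⧸ S) * c) * (ψ h * s c)⁻¹ ∈ V := fun h c => by
    have h1 : (((h : H ⧸ S) * c).out)⁻¹ * (h * c.out) ∈ S := QuotientGroup.eq.1 (by
      rw [QuotientGroup.out_eq', QuotientGroup.mk_mul, QuotientGroup.out_eq'])
    have h2 : (s ((h : H ⧸ S) * c))⁻¹ * (ψ h * s c) ∈ V := by
      have h3 : ψ ((((h : H ⧸ S) * c).out)⁻¹ * (h * c.out)) ∈ V := h1
      simpa [s, map_mul, map_inv] using h3
    have := (inferInstance : V.Normal).conj_mem _ (inv_mem h2) (ψ h * s c)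
    simpa [mul_assoc] using this
  let lam : H → H ⧸ S → A := fun h c => e (Additive.ofMul ⟨_, hlam h c⟩)
  have hlam_mul : ∀ h h' c, lam (h * h') c = lam h ((h' : H ⧸ S) * c) + ρ h (lam h' c) := fun h h' c => Aext (by
    simp only [lam, toMul_add, map_add, Subgroup.coe_mul, hρ, toMul_ofMul, e.symm_apply_apply, map_mul, QuotientGroup.mk_mul, mul_assoc]
    group)
  let a : H → (Module.Dual (ZMod p) A →ₗ[ZMod p] k) := fun h => ∑ c, θ ((h : H ⧸ S) * c) • emb (lam h c)
  have ha : ∀ h h', a (h * h') = a h + act h (a h') := fun h h' => by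
    simp only [a, act_sum, act_smul, act_emb, hθmul, hlam_mul, map_add, smul_add, Finset.sum_add_distrib,
      QuotientGroup.mk_mul, mul_assoc]
    congr 1
    exact Equiv.sum_comp (Equiv.mulLeft (h' : H ⧸ S)) fun c => θ ((h : H ⧸ S) * c) • emb (lam h c)
  have haS : ∀ n : H, ∀ hn : ψ n ∈ V, a n = -emb (e (Additive.ofMul ⟨ψ n, hn⟩)) := fun n hn => by
    have hn1 : (n : H ⧸ S) = 1 := (QuotientGroup.eq_one_iff n).2 hn
    have hl : ∀ c, lam n c = -e (Additive.ofMul ⟨ψ n, hn⟩) := fun c => Aext (by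
      simp only [lam, toMul_neg, map_neg, toMul_ofMul, e.symm_apply_apply, Subgroup.coe_inv, hn1, one_mul]
      group)
    simp only [a, hl, hn1, one_mul, map_neg, ← Finset.sum_smul, hθ1, one_smul]
  -- Artin-Schreier
  let F : k →ₗ[ZMod p] k := AddMonoidHom.toZModLinearMap p (frobenius k p).toAddMonoidHom
  let wp : (Module.Dual (ZMod p) A →ₗ[ZMod p] k) → (Module.Dual (ZMod p) A →ₗ[ZMod p] k) := fun w => F.comp w - w
  have wp_apply : ∀ (w : (Module.Dual (ZMod p) A →ₗ[ZMod p] k)) ξ, wp w ξ = w ξ ^ p - w ξ := fun _ _ => rfl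
  have wp_add : ∀ w w', wp (w + w') = wp w + wp w' := fun w w' => by
    simp only [wp, LinearMap.comp_add]; abel
  have wp_sub : ∀ w w', wp (w - w') = wp w - wp w' := fun w w' => by
    simp only [wp, LinearMap.comp_sub]; abel
  have wp_act : ∀ h w, wp (act h w) = act h (wp w) := fun h w => LinearMap.ext fun ξ => by
    simp only [wp_apply, act_apply, smul_sub, smul_pow']
  have wp_emb : ∀ x, wp (emb x) = 0 := fun x => LinearMap.ext fun ξ => by
    rw [wp_apply, emb_apply, ← map_pow, ZMod.pow_card, sub_self]; rfl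
  let b : H → (Module.Dual (ZMod p) A →ₗ[ZMod p] k) := fun h => wp (a h)
  have hb : ∀ h h', b (h * h') = b h + act h (b h') := fun h h' => by simp only [b, ha, wp_add, wp_act]
  have hbS : ∀ h h' : H, (h : H ⧸ S) = h' → b h = b h' := fun h h' e => by
    have hn : ψ (h⁻¹ * h') ∈ V := QuotientGroup.eq.1 e
    have h0 : b (h⁻¹ * h') = 0 := by
      show wp (a _) = 0
      rw [haS _ hn, ← map_neg, wp_emb]
    have := hb h (h⁻¹ * h')
    rw [mul_inv_cancel_left, h0] at this
    rw [this]
    refine (add_eq_left.2 (LinearMap.ext fun ξ => ?_)).symm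
    rw [act_apply, LinearMap.zero_apply, smul_zero, LinearMap.zero_apply]
  let b₀ : (Module.Dual (ZMod p) A →ₗ[ZMod p] k) := -∑ c : H ⧸ S, θ c • b c.out
  have hb₀ : ∀ h, act h b₀ = b₀ + b h := fun h => by
    have hneg : ∀ w : (Module.Dual (ZMod p) A →ₗ[ZMod p] k), act h (-w) = -act h w := fun w =>
      LinearMap.ext fun ξ => by simp only [act_apply, LinearMap.neg_apply, smul_neg]
    have h1 : ∀ c : H ⧸ S, act h (b c.out) = b ((h : H ⧸ S) * c).out - b h := fun c => by
      rw [hbS ((h : H ⧸ S) * c).out (h * c.out)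
        (by rw [QuotientGroup.out_eq', QuotientGroup.mk_mul, QuotientGroup.out_eq']), hb, add_sub_cancel_left]
    simp only [b₀, hneg, act_sum, act_smul, h1, hθmul, smul_sub, Finset.sum_sub_distrib, ← Finset.sum_smul]
    rw [show ∑ c, θ ((h : H ⧸ S) * c) • b ((h : H ⧸ S) * c).out = ∑ c, θ c • b c.out from
        Equiv.sum_comp (Equiv.mulLeft (h : H ⧸ S)) (fun c => θ c • b c.out),
      show ∑ c, θ ((h : H ⧸ S) * c) = 1 from (Equiv.sum_comp (Equiv.mulLeft (h : H ⧸ S)) θ).trans hθ1, one_smul]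
    abel
  haveI : Module.Finite (ZMod p) A := Module.Finite.of_finite
  let bT := Module.finBasis (ZMod p) (Module.Dual (ZMod p) A)
  choose root hroot using fun i => exists_artinSchreier (B := B) p (b₀ (bT i))
  let β : (Module.Dual (ZMod p) A →ₗ[ZMod p] k) := bT.constr (ZMod p) root
  have hβ : wp β = b₀ := bT.ext fun i => by rw [wp_apply, Module.Basis.constr_basis, hroot]
  let a' : H → (Module.Dual (ZMod p) A →ₗ[ZMod p] k) := fun h => a h - (act h β - β)
  have ha' : ∀ h h', a' (h * h') = a' h + act h (a' h') := fun h h' => by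
    simp only [a', ha, act_mul, act_sub]; abel
  have hex : ∀ h, ∃ x : A, emb x = a' h := fun h => by
    have h0 : wp (a' h) = 0 := by
      simp only [a', wp_sub, wp_act, hβ, hb₀]
      show b h - _ = 0
      abel
    have hval : ∀ ξ, ∃ c : ZMod p, algebraMap (ZMod p) k c = a' h ξ := fun ξ =>
      exists_zmod_of_pow_eq p _ (sub_eq_zero.1 (LinearMap.congr_fun h0 ξ))
    choose c hc using hval
    let φ : (Module.Dual (ZMod p) A) →ₗ[ZMod p] ZMod p :=
      { toFun := c
        map_add' := fun x y => (algebraMap (ZMod p) k).injective (by rw [map_add, hc, hc, hc, map_add])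
        map_smul' := fun m x => (algebraMap (ZMod p) k).injective (by
          rw [RingHom.id_apply, smul_eq_mul, map_mul, hc, hc, map_smul, Algebra.smul_def]) }
    refine ⟨(Module.evalEquiv (ZMod p) A).symm φ, LinearMap.ext fun ξ => ?_⟩
    rw [emb_apply, Module.apply_evalEquiv_symm_apply]
    exact hc ξ
  choose f hf using hex
  have hfmul : ∀ h h', f (h * h') = f h + ρ h (f h') := fun h h' => emb_inj (by
    rw [map_add, hf, ha', ← act_emb, hf, hf])
  have hf1 : f 1 = 0 := by
    have := hfmul 1 1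
    rw [mul_one, hρone 1 (by rw [map_one]; exact one_mem V), LinearMap.id_apply] at this
    exact left_eq_add.1 this
  have hfI : ∀ n : H, ∀ hn : (n : D) ∈ B.inertiaSubgroup K, f n = -e (Additive.ofMul ⟨ψ n, hNV n hn⟩) :=
    fun n hn => emb_inj (by
      rw [hf, map_neg, ← haS n (hNV n hn)]
      refine sub_eq_self.2 (sub_eq_zero.2 (LinearMap.ext fun ξ => ?_))
      rw [act_apply, hρone n (hNV n hn), LinearMap.comp_id, mem_inertia.1 hn])
  -- the smaller supplement
  let H₁ : Subgroup D :=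
    { carrier := {d | ∃ hd : d ∈ H, f ⟨d, hd⟩ = 0}
      one_mem' := ⟨one_mem H, hf1⟩
      mul_mem' := fun {x y} ⟨hx, hx0⟩ ⟨hy, hy0⟩ => ⟨mul_mem hx hy, by
        rw [show (⟨x * y, mul_mem hx hy⟩ : H) = ⟨x, hx⟩ * ⟨y, hy⟩ from rfl, hfmul, hx0, hy0, map_zero, add_zero]⟩
      inv_mem' := fun {x} ⟨hx, hx0⟩ => ⟨inv_mem hx, by
        have := hfmul ⟨x, hx⟩⁻¹ ⟨x, hx⟩
        rw [inv_mul_cancel, hf1, hx0, map_zero, add_zero] at this
        exact this.symm⟩ }
  choose lift hlift using fun i => IsLocalRing.residue_surjective (root i)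
  let U₁ : Subgroup D := U ⊓ ⨅ i, MulAction.stabilizer D ((lift i : B) : L)
  have hU₁ : IsOpen (U₁ : Set D) := by
    simp only [U₁, Subgroup.coe_inf, Subgroup.coe_iInf]
    exact hU.inter (isOpen_iInter_of_finite fun i => isOpen_stabilizer _)
  have hH₁c : IsClosed (H₁ : Set D) := isClosed_subgroup hH.closed hU₁ (fun d hd => hd.1) fun d hd => by
    refine ⟨hd.1, emb_inj ?_⟩
    obtain ⟨hdU, hdS⟩ := hd.2
    have hψd : ψ ⟨d, hd.1⟩ = 1 := hker _ hdU
    have hV : ψ ⟨d, hd.1⟩ ∈ V := by rw [hψd]; exact one_mem V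
    rw [hf, map_zero]
    show a _ - (act _ β - β) = 0
    have h0 : (e (Additive.ofMul ⟨ψ ⟨d, hd.1⟩, hV⟩) : A) = 0 := Aext (by simpa using hψd)
    rw [haS _ hV, h0, map_zero, neg_zero, zero_sub, neg_eq_zero, sub_eq_zero]
    refine bT.ext fun i => ?_
    rw [act_apply, hρone _ hV, LinearMap.comp_id, Module.Basis.constr_basis, ← hlift i,
      ← IsLocalRing.ResidueField.residue_smul]
    exact congrArg _ (Subtype.ext (Subgroup.mem_iInf.1 hdS i))
  have hH₁ : H₁ = H := hH.minimal H₁ hH₁c (fun d hd => hd.1) fun h hh => by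
    let w : A := ρ (⟨h, hh⟩ : H)⁻¹ (f ⟨h, hh⟩)
    obtain ⟨n, hnI, hn⟩ := himg _ (Additive.toMul (e.symm w)).2
    refine ⟨n, ⟨n.2, hnI⟩, mul_mem hh n.2, ?_⟩
    rw [show (⟨h * n, mul_mem hh n.2⟩ : H) = ⟨h, hh⟩ * n from rfl, hfmul, hfI n hnI, map_neg,
      show (e (Additive.ofMul ⟨ψ n, hNV n hnI⟩) : A) = w from Aext (by rw [e.symm_apply_apply]; exact hn)]
    show _ + -(ρ ⟨h, hh⟩ (ρ _ _)) = 0
    rw [← LinearMap.comp_apply, ← hρmul, mul_inv_cancel, hρone 1 (by rw [map_one]; exact one_mem V),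
      LinearMap.id_apply, add_neg_cancel]
  obtain ⟨n, hnI, hn⟩ := himg v₀ hv₀
  obtain ⟨hd, h0⟩ := hH₁.ge n.2
  rw [hfI ⟨n, hd⟩ hnI, neg_eq_zero] at h0
  rw [← hn]
  have h1 := congrArg (fun x : A => ((Additive.toMul (e.symm x) : V) : E)) h0
  simpa using h1

theorem IsMinimalSupplement.eq_one_of_wild {H : Subgroup D} (hH : IsMinimalSupplement H) (p : ℕ) [Fact p.Prime]
    [CharP k p] {E : Type u} [Group E] [Finite E] (ψ : H →* E) (V : Subgroup E) [V.Normal]
    (hcomm : ∀ a ∈ V, ∀ b ∈ V, a * b = b * a) (hexp : ∀ a ∈ V, a ^ p = 1)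
    (U : Subgroup D) (hU : IsOpen (U : Set D)) (hker : ∀ h : H, (h : D) ∈ U → ψ h = 1)
    (himg : ∀ v ∈ V, ∃ n : H, (n : D) ∈ B.inertiaSubgroup K ∧ ψ n = v)
    (hNV : ∀ n : H, (n : D) ∈ B.inertiaSubgroup K → ψ n ∈ V) {v₀ : E} (hv₀ : v₀ ∈ V) : v₀ = 1 := by
  letI : CommGroup V := { (inferInstance : Group V) with mul_comm := fun a b => Subtype.ext (hcomm a a.2 b b.2) }
  letI : Module (ZMod p) (Additive V) := AddCommGroup.zmodModule fun x =>
    Additive.toMul.injective (Subtype.ext (by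
      show (((Additive.toMul x : V) ^ p : V) : E) = 1
      rw [SubmonoidClass.coe_pow]
      exact hexp _ (Additive.toMul x).2))
  exact hH.eq_one_of_wild_aux p ψ V (AddEquiv.refl (Additive V)) hcomm U hU hker himg hNV hv₀

end Groth.Agent.H9GalCoh.Complement
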